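import Mathlib.RingTheory.Flat.Basic
import Mathlib.RingTheory.RingHom.Flat
import Mathlib.LinearAlgebra.TensorProduct.RightExactness
import Mathlib.RingTheory.TensorProduct.Basic
import Mathlib.RingTheory.Flat.Stability

/-!
# Base change along a ring homomorphism, without casts

`BC x M = R' ⊗_x M` for a ring homomorphism `x : R →+* R'` (the algebra structure is carried by a type synonym `Al x`).
`bc x : M →ₛₗ[x] BC x M`, `BC.lift`, `BC.map`, `BC.tr` (further base change) and `BC.pull` (pull-back of a linear map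
`BC x M → BC y N` along `f : R' →+* R''`).  The equations `f ∘ x = x'` are hypotheses, so that everything is functorial on
the nose.
-/

set_option autoImplicit false

universe u v w

open TensorProduct

namespace Groth.Agent.ResProp.EF.K980

/-- `R'` as an algebra over `R` through `x`. -/
def Al {R : Type u} {R' : Type v} [CommRing R] [CommRing R'] (_x : R →+* R') : Type v := R'

section Al

variable {R : Type u} {R' : Type v} [CommRing R] [CommRing R'] (x : R →+* R')

instance : CommRing (Al x) := inferInstanceAs (CommRing R')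

/-- The structure map `R → Al x`. -/
def alHom : R →+* Al x := x

/-- The identity `R' = Al x`. -/
def alId : R' →+* Al x := RingHom.id R'

instance : Algebra R (Al x) := (alHom x).toAlgebra
instance : Algebra R' (Al x) := (alId x).toAlgebra

theorem al_smul_def (r : R) (a : Al x) : r • a = alHom x r * a := rfl

theorem al_smul_def' (r : R') (a : Al x) : r • a = alId x r * a := rfl

instance : SMulCommClass R R' (Al x) := ⟨fun r r' a => by
  rw [al_smul_def, al_smul_def', al_smul_def, al_smul_def', mul_left_comm]⟩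

instance : SMulCommClass R' R (Al x) := SMulCommClass.symm _ _ _

theorem flat_al (h : x.Flat) : Module.Flat R (Al x) := h

end Al

/-- The base change of `M` along `x`. -/
def BC {R : Type u} {R' : Type v} [CommRing R] [CommRing R'] (x : R →+* R') (M : Type w) [AddCommGroup M] [Module R M] :
    Type (max v w) := Al x ⊗[R] M

section

variable {R : Type u} {R' : Type v} [CommRing R] [CommRing R'] (x : R →+* R')
variable {M : Type w} [AddCommGroup M] [Module R M]

instance : AddCommGroup (BC x M) := inferInstanceAs (AddCommGroup (Al x ⊗[R] M))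
instance : Module R' (BC x M) := inferInstanceAs (Module R' (Al x ⊗[R] M))

/-- The canonical map `m ↦ 1 ⊗ m`. -/
def bc : M →ₛₗ[x] BC x M where
  toFun m := (1 : Al x) ⊗ₜ[R] m
  map_add' a b := TensorProduct.tmul_add _ _ _
  map_smul' r m := by
    show (1 : Al x) ⊗ₜ[R] (r • m) = x r • ((1 : Al x) ⊗ₜ[R] m)
    rw [TensorProduct.smul_tmul', al_smul_def', TensorProduct.tmul_smul, TensorProduct.smul_tmul', al_smul_def]
    rfl

namespace BC

variable {x}

theorem smul_bc_eq (r : R') (m : M) : r • bc x m = alId x r ⊗ₜ[R] m := by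
  show r • ((1 : Al x) ⊗ₜ[R] m) = _
  rw [TensorProduct.smul_tmul', al_smul_def', mul_one]

theorem ind {p : BC x M → Prop} (z : BC x M) (h0 : p 0) (h1 : ∀ (r : R') (m : M), p (r • bc x m))
    (h2 : ∀ a b, p a → p b → p (a + b)) : p z := by
  refine TensorProduct.induction_on (motive := p) z h0 (fun r m => ?_) h2
  have := h1 (show R' from r) m
  rwa [smul_bc_eq] at this

/-- Two semilinear maps which agree on `M` are equal. -/
theorem hom_ext {S : Type*} [CommRing S] {σ : R' →+* S} {N : Type*} [AddCommGroup N] [Module S N]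
    {f g : BC x M →ₛₗ[σ] N} (h : ∀ m, f (bc x m) = g (bc x m)) : f = g := by
  ext z
  induction z using ind with
  | h0 => rw [map_zero, map_zero]
  | h1 r m => rw [LinearMap.map_smulₛₗ, LinearMap.map_smulₛₗ, h]
  | h2 a b ha hb => rw [map_add, map_add, ha, hb]

theorem span_bc : Submodule.span R' (Set.range (bc x : M → BC x M)) = ⊤ := by
  rw [eq_top_iff]
  intro z _
  induction z using ind with
  | h0 => exact zero_mem _
  | h1 r m => exact Submodule.smul_mem _ _ (Submodule.subset_span ⟨m, rfl⟩)
  | h2 a b ha hb => exact add_mem (ha trivial) (hb trivial)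

/-- The universal property. -/
def lift {S : Type*} [CommRing S] {σ : R' →+* S} {τ : R →+* S} (h : σ.comp x = τ) {N : Type*} [AddCommGroup N]
    [Module S N] (φ : M →ₛₗ[τ] N) : BC x M →ₛₗ[σ] N :=
  let F : BC x M →+ N := TensorProduct.liftAddHom
    { toFun := fun a =>
        { toFun := fun m => σ (show R' from a) • φ m
          map_zero' := by rw [map_zero, smul_zero]
          map_add' := fun m n => by rw [map_add, smul_add] }
      map_zero' := by ext m; show σ (0 : R') • φ m = 0; rw [map_zero, zero_smul]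
      map_add' := fun a b => by
        ext m
        show σ ((show R' from a) + (show R' from b)) • φ m = σ (show R' from a) • φ m + σ (show R' from b) • φ m
        rw [map_add, add_smul] }
    (fun r a m => by
      show σ (x r * (show R' from a)) • φ m = σ (show R' from a) • φ (r • m)
      rw [LinearMap.map_smulₛₗ, map_mul, mul_comm, mul_smul, show σ (x r) = τ r from RingHom.congr_fun h r])
  { toFun := F
    map_add' := map_add F
    map_smul' := fun r z => by
      induction z using ind with
      | h0 => rw [smul_zero, map_zero, smul_zero]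
      | h1 s m =>
        rw [smul_smul, smul_bc_eq, smul_bc_eq]
        show σ (r * s) • φ m = σ r • (σ s • φ m)
        rw [map_mul, mul_smul]
      | h2 a b ha hb => rw [smul_add, map_add, map_add, ha, hb, smul_add] }

@[simp] theorem lift_bc {S : Type*} [CommRing S] {σ : R' →+* S} {τ : R →+* S} (h : σ.comp x = τ) {N : Type*}
    [AddCommGroup N] [Module S N] (φ : M →ₛₗ[τ] N) (m : M) : lift h φ (bc x m) = φ m := by
  show σ (1 : R') • φ m = φ m
  rw [map_one, one_smul]

variable {N : Type*} [AddCommGroup N] [Module R N] {Q : Type*} [AddCommGroup Q] [Module R Q]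

variable (x) in
/-- Functoriality in the module. -/
def map (g : M →ₗ[R] N) : BC x M →ₗ[R'] BC x N :=
  lift (σ := RingHom.id R') (τ := x) (RingHom.id_comp x)
    { toFun := fun m => bc x (g m)
      map_add' := fun a b => by rw [map_add, map_add]
      map_smul' := fun r m => by rw [map_smul, LinearMap.map_smulₛₗ] }

@[simp] theorem map_bc (g : M →ₗ[R] N) (m : M) : map x g (bc x m) = bc x (g m) := lift_bc _ _ m

theorem map_id : map x (LinearMap.id : M →ₗ[R] M) = LinearMap.id := hom_ext fun m => by simp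

theorem map_comp (g : N →ₗ[R] Q) (f : M →ₗ[R] N) : map x (g ∘ₗ f) = map x g ∘ₗ map x f := hom_ext fun m => by simp

theorem map_map (g : N →ₗ[R] Q) (f : M →ₗ[R] N) (z : BC x M) : map x g (map x f z) = map x (g ∘ₗ f) z := by
  rw [map_comp]; rfl

theorem map_add' (g g' : M →ₗ[R] N) : map x (g + g') = map x g + map x g' := hom_ext fun m => by simp

theorem map_smul' (r : R) (g : M →ₗ[R] N) : map x (r • g) = x r • map x g := hom_ext fun m => by simp

theorem map_zero' : map x (0 : M →ₗ[R] N) = 0 := hom_ext fun m => by simp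

theorem map_eq_lTensor (g : M →ₗ[R] N) (z : BC x M) :
    map x g z = (show BC x N from LinearMap.lTensor (Al x) g (show Al x ⊗[R] M from z)) := by
  let G : BC x M →+ BC x N := (LinearMap.lTensor (Al x) g).toAddMonoidHom
  show map x g z = G z
  induction z using ind with
  | h0 => rw [map_zero, map_zero]
  | h1 r m =>
    rw [LinearMap.map_smul, map_bc, smul_bc_eq, smul_bc_eq]
    rfl
  | h2 a b ha hb => rw [map_add, map_add, ha, hb]

theorem map_injective (hx : x.Flat) {g : M →ₗ[R] N} (hg : Function.Injective g) : Function.Injective (map x g) := by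
  have := flat_al x hx
  have h := Module.Flat.lTensor_preserves_injective_linearMap (M := Al x) g hg
  intro a b hab
  rw [map_eq_lTensor, map_eq_lTensor] at hab
  exact h hab

theorem map_surjective {g : M →ₗ[R] N} (hg : Function.Surjective g) : Function.Surjective (map x g) := by
  have h := LinearMap.lTensor_surjective (Al x) hg
  intro z
  obtain ⟨y, hy⟩ := h z
  exact ⟨y, (map_eq_lTensor g y).trans hy⟩

theorem map_exact {f : M →ₗ[R] N} {g : N →ₗ[R] Q} (hfg : Function.Exact f g) (hg : Function.Surjective g) :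
    Function.Exact (map x f) (map x g) := by
  have h := lTensor_exact (Al x) hfg hg
  intro z
  rw [map_eq_lTensor]
  refine (h z).trans ⟨?_, ?_⟩
  · rintro ⟨y, hy⟩; exact ⟨y, (map_eq_lTensor f y).trans hy⟩
  · rintro ⟨y, hy⟩; exact ⟨y, (map_eq_lTensor f y).symm.trans hy⟩

theorem map_exact_of_flat (hx : x.Flat) {f : M →ₗ[R] N} {g : N →ₗ[R] Q} (hfg : Function.Exact f g) :
    Function.Exact (map x f) (map x g) := by
  have := flat_al x hx
  have h := Module.Flat.lTensor_exact (Al x) hfg
  intro z
  rw [map_eq_lTensor]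
  refine (h z).trans ⟨?_, ?_⟩
  · rintro ⟨y, hy⟩; exact ⟨y, (map_eq_lTensor f y).trans hy⟩
  · rintro ⟨y, hy⟩; exact ⟨y, (map_eq_lTensor f y).symm.trans hy⟩

/-- Base change of a linear equivalence. -/
def congr (e : M ≃ₗ[R] N) : BC x M ≃ₗ[R'] BC x N :=
  LinearEquiv.ofLinearMap (map x e.toLinearMap) (map x e.symm.toLinearMap)
    (hom_ext fun m => by simp) (hom_ext fun m => by simp)

variable (x) in
/-- Base change of linear maps, as a linear map. -/
def emb : BC x (M →ₗ[R] N) →ₗ[R'] (BC x M →ₗ[R'] BC x N) :=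
  lift (σ := RingHom.id R') (τ := x) (RingHom.id_comp x)
    { toFun := fun g => map x g
      map_add' := fun a b => map_add' a b
      map_smul' := fun r m => map_smul' r m }

@[simp] theorem emb_bc (g : M →ₗ[R] N) : emb x (bc x g) = map x g := lift_bc _ _ g

variable (x) in
/-- Base change of a bilinear map. -/
def bil (β : M →ₗ[R] N →ₗ[R] Q) : BC x M →ₗ[R'] BC x N →ₗ[R'] BC x Q := emb x ∘ₗ map x β

@[simp] theorem bil_bc (β : M →ₗ[R] N →ₗ[R] Q) (m : M) (n : N) : bil x β (bc x m) (bc x n) = bc x (β m n) := by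
  show emb x (map x β (bc x m)) (bc x n) = _
  rw [map_bc, emb_bc, map_bc]

end BC

end

/-! ### further base change -/

namespace BC

variable {R : Type u} {R' : Type v} {R'' : Type w} [CommRing R] [CommRing R'] [CommRing R'']
variable {M : Type*} [AddCommGroup M] [Module R M] {N : Type*} [AddCommGroup N] [Module R N]
  {Q : Type*} [AddCommGroup Q] [Module R Q]
variable {x y z : R →+* R'} {x' y' z' : R →+* R''} {f : R' →+* R''}

/-- `BC x M → BC x' M` for `x' = f ∘ x`. -/
def tr (f : R' →+* R'') (hx : f.comp x = x') : BC x M →ₛₗ[f] BC x' M := lift hx (bc x')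

@[simp] theorem tr_bc (hx : f.comp x = x') (m : M) : tr f hx (bc x m) = bc x' m := lift_bc _ _ m

theorem tr_id (hx : (RingHom.id R').comp x = x) (m : BC x M) : tr (RingHom.id R') hx m = m := by
  have : (tr (RingHom.id R') hx : BC x M →ₗ[R'] BC x M) = LinearMap.id := hom_ext fun m => by simp
  rw [this]; rfl

theorem tr_tr {T : Type*} [CommRing T] {g : R'' →+* T} {x'' : R →+* T} (hx : f.comp x = x') (hx' : g.comp x' = x'')
    (hx'' : (g.comp f).comp x = x'') (m : BC x M) : tr g hx' (tr f hx m) = tr (g.comp f) hx'' m := by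
  induction m using ind with
  | h0 => simp
  | h1 r m => simp [LinearMap.map_smulₛₗ]
  | h2 a b ha hb => rw [map_add, map_add, map_add, ha, hb]

theorem tr_map (hx : f.comp x = x') (g : M →ₗ[R] N) (m : BC x M) : tr f hx (map x g m) = map x' g (tr f hx m) := by
  induction m using ind with
  | h0 => simp
  | h1 r m => simp [LinearMap.map_smulₛₗ]
  | h2 a b ha hb => rw [map_add, map_add, map_add, map_add, ha, hb]

/-- Two `R''`-linear maps out of `BC x' M` which agree on the image of `BC x M` are equal. -/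
theorem hom_ext_tr (hx : f.comp x = x') {N' : Type*} [AddCommGroup N'] [Module R'' N'] {g g' : BC x' M →ₗ[R''] N'}
    (h : ∀ m : BC x M, g (tr f hx m) = g' (tr f hx m)) : g = g' :=
  hom_ext fun m => by simpa using h (bc x m)

/-- The pull-back of an `R'`-linear map `BC x M → BC y N` along `f : R' →+* R''`. -/
def pull (f : R' →+* R'') (hx : f.comp x = x') (hy : f.comp y = y') (ψ : BC x M →ₗ[R'] BC y N) :
    BC x' M →ₗ[R''] BC y' N :=
  lift (σ := RingHom.id R'') (τ := x') (RingHom.id_comp x')
    { toFun := fun m => tr f hy (ψ (bc x m))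
      map_add' := fun a b => by rw [map_add, map_add, map_add]
      map_smul' := fun r m => by
        rw [LinearMap.map_smulₛₗ, LinearMap.map_smulₛₗ, LinearMap.map_smulₛₗ, ← hx]; rfl }

theorem pull_bc (hx : f.comp x = x') (hy : f.comp y = y') (ψ : BC x M →ₗ[R'] BC y N) (m : M) :
    pull f hx hy ψ (bc x' m) = tr f hy (ψ (bc x m)) := lift_bc _ _ m

@[simp] theorem pull_tr (hx : f.comp x = x') (hy : f.comp y = y') (ψ : BC x M →ₗ[R'] BC y N) (m : BC x M) :
    pull f hx hy ψ (tr f hx m) = tr f hy (ψ m) := by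
  induction m using ind with
  | h0 => simp
  | h1 r m =>
    rw [LinearMap.map_smulₛₗ, LinearMap.map_smulₛₗ, LinearMap.map_smulₛₗ, LinearMap.map_smulₛₗ, tr_bc, pull_bc]
    rfl
  | h2 a b ha hb => rw [map_add, map_add, map_add, map_add, ha, hb]

theorem eq_pull (hx : f.comp x = x') (hy : f.comp y = y') {ψ : BC x M →ₗ[R'] BC y N} {ψ' : BC x' M →ₗ[R''] BC y' N}
    (h : ∀ m : M, ψ' (bc x' m) = tr f hy (ψ (bc x m))) : ψ' = pull f hx hy ψ :=
  hom_ext fun m => by rw [h, pull_bc]

theorem pull_comp (hx : f.comp x = x') (hy : f.comp y = y') (hz : f.comp z = z') (χ : BC y N →ₗ[R'] BC z Q)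
    (ψ : BC x M →ₗ[R'] BC y N) : pull f hx hz (χ ∘ₗ ψ) = pull f hy hz χ ∘ₗ pull f hx hy ψ :=
  hom_ext_tr hx fun m => by simp

theorem pull_id (hx : f.comp x = x') : pull f hx hx (LinearMap.id : BC x M →ₗ[R'] BC x M) = LinearMap.id :=
  hom_ext_tr hx fun m => by simp

theorem pull_idRing (ψ : BC x M →ₗ[R'] BC y N) (hx : (RingHom.id R').comp x = x) (hy : (RingHom.id R').comp y = y) :
    pull (RingHom.id R') hx hy ψ = ψ := hom_ext fun m => by rw [pull_bc, tr_id]

theorem pull_pull {T : Type*} [CommRing T] {g : R'' →+* T} {x'' y'' : R →+* T} (hx : f.comp x = x') (hy : f.comp y = y')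
    (hx' : g.comp x' = x'') (hy' : g.comp y' = y'') (hx'' : (g.comp f).comp x = x'') (hy'' : (g.comp f).comp y = y'')
    (ψ : BC x M →ₗ[R'] BC y N) : pull g hx' hy' (pull f hx hy ψ) = pull (g.comp f) hx'' hy'' ψ :=
  hom_ext fun m => by
    rw [pull_bc, pull_bc, pull_bc, tr_tr hy hy' hy'']

theorem pull_add (hx : f.comp x = x') (hy : f.comp y = y') (ψ ψ' : BC x M →ₗ[R'] BC y N) :
    pull f hx hy (ψ + ψ') = pull f hx hy ψ + pull f hx hy ψ' := hom_ext_tr hx fun m => by simp

theorem pull_sub (hx : f.comp x = x') (hy : f.comp y = y') (ψ ψ' : BC x M →ₗ[R'] BC y N) :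
    pull f hx hy (ψ - ψ') = pull f hx hy ψ - pull f hx hy ψ' := hom_ext_tr hx fun m => by simp

theorem pull_zero (hx : f.comp x = x') (hy : f.comp y = y') : pull f hx hy (0 : BC x M →ₗ[R'] BC y N) = 0 :=
  hom_ext_tr hx fun m => by simp

theorem pull_smul (hx : f.comp x = x') (hy : f.comp y = y') (r : R') (ψ : BC x M →ₗ[R'] BC y N) :
    pull f hx hy (r • ψ) = f r • pull f hx hy ψ := hom_ext_tr hx fun m => by simp [LinearMap.map_smulₛₗ]

theorem pull_map (hx : f.comp x = x') (g : M →ₗ[R] N) : pull f hx hx (map x g) = map x' g :=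
  hom_ext fun m => by rw [pull_bc]; simp

/-- The pull-back of a linear equivalence. -/
def pullE (f : R' →+* R'') (hx : f.comp x = x') (hy : f.comp y = y') (ψ : BC x M ≃ₗ[R'] BC y N) :
    BC x' M ≃ₗ[R''] BC y' N :=
  LinearEquiv.ofLinearMap (pull f hx hy ψ.toLinearMap) (pull f hy hx ψ.symm.toLinearMap)
    (by rw [← pull_comp, LinearEquiv.comp_coe, LinearEquiv.symm_trans_self]; exact pull_id hy)
    (by rw [← pull_comp, LinearEquiv.comp_coe, LinearEquiv.self_trans_symm]; exact pull_id hx)

@[simp] theorem pullE_tr (hx : f.comp x = x') (hy : f.comp y = y') (ψ : BC x M ≃ₗ[R'] BC y N) (m : BC x M) :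
    pullE f hx hy ψ (tr f hx m) = tr f hy (ψ m) := pull_tr hx hy ψ.toLinearMap m

@[simp] theorem pullE_bc (hx : f.comp x = x') (hy : f.comp y = y') (ψ : BC x M ≃ₗ[R'] BC y N) (m : M) :
    pullE f hx hy ψ (bc x' m) = tr f hy (ψ (bc x m)) := pull_bc hx hy ψ.toLinearMap m

@[simp] theorem pullE_symm (hx : f.comp x = x') (hy : f.comp y = y') (ψ : BC x M ≃ₗ[R'] BC y N) :
    (pullE f hx hy ψ).symm = pullE f hy hx ψ.symm := rfl

@[simp] theorem pullE_toLinearMap (hx : f.comp x = x') (hy : f.comp y = y') (ψ : BC x M ≃ₗ[R'] BC y N) :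
    (pullE f hx hy ψ).toLinearMap = pull f hx hy ψ.toLinearMap := rfl

theorem pullE_trans (hx : f.comp x = x') (hy : f.comp y = y') (hz : f.comp z = z') (ψ : BC x M ≃ₗ[R'] BC y N)
    (χ : BC y N ≃ₗ[R'] BC z Q) : pullE f hx hz (ψ.trans χ) = (pullE f hx hy ψ).trans (pullE f hy hz χ) :=
  LinearEquiv.toLinearMap_injective (pull_comp hx hy hz χ.toLinearMap ψ.toLinearMap)

theorem pullE_refl (hx : f.comp x = x') : pullE f hx hx (LinearEquiv.refl R' (BC x M)) = LinearEquiv.refl R'' _ :=
  LinearEquiv.toLinearMap_injective (pull_id hx)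

theorem pullE_pullE {T : Type*} [CommRing T] {g : R'' →+* T} {x'' y'' : R →+* T} (hx : f.comp x = x')
    (hy : f.comp y = y') (hx' : g.comp x' = x'') (hy' : g.comp y' = y'') (hx'' : (g.comp f).comp x = x'')
    (hy'' : (g.comp f).comp y = y'') (ψ : BC x M ≃ₗ[R'] BC y N) :
    pullE g hx' hy' (pullE f hx hy ψ) = pullE (g.comp f) hx'' hy'' ψ :=
  LinearEquiv.toLinearMap_injective (pull_pull hx hy hx' hy' hx'' hy'' ψ.toLinearMap)

theorem pullE_idRing (ψ : BC x M ≃ₗ[R'] BC y N) (hx : (RingHom.id R').comp x = x) (hy : (RingHom.id R').comp y = y) :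
    pullE (RingHom.id R') hx hy ψ = ψ := LinearEquiv.toLinearMap_injective (pull_idRing ψ.toLinearMap hx hy)

end BC

end Groth.Agent.ResProp.EF.K980
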