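import Groth.Agent.ResProp.EF.K980.BC
import Mathlib.RingTheory.FiniteType
import Mathlib.RingTheory.Noetherian.Basic

/-!
# The algebra package (sections 3 and 4 of departures/helper980.md, third version, chart level)

`PGpd R` : a groupoid of points over the ring valued points `x : R →+* R'` (functorial on the nose).
`EqMod P M`, `EqAlg P D` : modules and algebras over `R` with an action of the arrows.
`AlgPkg P` : the filtered complex `K = KK_S` (total module, differential `d`, projections `pr i` to the degrees), the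
filtered algebra of operators `DD^(j)`, and for each arrow `a` the set `L a` of lifts.  Everything at flat points only.

Producer: G3 + G4 (`P` = the groupoid of isomorphisms of the data `(D, V, ρ, W → gr)`).
Consumer: gluing along `Γ` (H^1 = H^2 = 0 for the graded pieces `gr^j DD`), `OpPkg` of helper649.
-/

set_option autoImplicit false

universe u v w

namespace Groth.Agent.ResProp.EF.K980

/-! ### groupoids of points -/

/-- A groupoid of points: arrows between ring valued points `x y : R →+* R'`, with pull-back. -/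
structure PGpd (R : Type u) [CommRing R] where
  /-- arrows -/
  Hom : ∀ {R' : Type u} [CommRing R'], (R →+* R') → (R →+* R') → Type u
  id : ∀ {R' : Type u} [CommRing R'] (x : R →+* R'), Hom x x
  /-- composition, in diagrammatic order -/
  comp : ∀ {R' : Type u} [CommRing R'] {x y z : R →+* R'}, Hom x y → Hom y z → Hom x z
  inv : ∀ {R' : Type u} [CommRing R'] {x y : R →+* R'}, Hom x y → Hom y x
  id_comp : ∀ {R' : Type u} [CommRing R'] {x y : R →+* R'} (a : Hom x y), comp (id x) a = a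
  comp_id : ∀ {R' : Type u} [CommRing R'] {x y : R →+* R'} (a : Hom x y), comp a (id y) = a
  comp_assoc : ∀ {R' : Type u} [CommRing R'] {x y z t : R →+* R'} (a : Hom x y) (b : Hom y z) (c : Hom z t),
    comp (comp a b) c = comp a (comp b c)
  comp_inv : ∀ {R' : Type u} [CommRing R'] {x y : R →+* R'} (a : Hom x y), comp a (inv a) = id x
  inv_comp : ∀ {R' : Type u} [CommRing R'] {x y : R →+* R'} (a : Hom x y), comp (inv a) a = id y
  /-- pull-back along a ring homomorphism -/
  pull : ∀ {R' R'' : Type u} [CommRing R'] [CommRing R''] (f : R' →+* R'') {x y : R →+* R'} {x' y' : R →+* R''}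
    (_ : f.comp x = x') (_ : f.comp y = y'), Hom x y → Hom x' y'
  pull_id : ∀ {R' R'' : Type u} [CommRing R'] [CommRing R''] (f : R' →+* R'') {x : R →+* R'} {x' : R →+* R''}
    (hx : f.comp x = x'), pull f hx hx (id x) = id x'
  pull_comp : ∀ {R' R'' : Type u} [CommRing R'] [CommRing R''] (f : R' →+* R'') {x y z : R →+* R'}
    {x' y' z' : R →+* R''} (hx : f.comp x = x') (hy : f.comp y = y') (hz : f.comp z = z') (a : Hom x y) (b : Hom y z),
    pull f hx hz (comp a b) = comp (pull f hx hy a) (pull f hy hz b)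
  pull_idRing : ∀ {R' : Type u} [CommRing R'] {x y : R →+* R'} (a : Hom x y),
    pull (RingHom.id R') (RingHom.id_comp x) (RingHom.id_comp y) a = a
  pull_pull : ∀ {R' R'' R₃ : Type u} [CommRing R'] [CommRing R''] [CommRing R₃] (f : R' →+* R'') (g : R'' →+* R₃)
    {x y : R →+* R'} {x' y' : R →+* R''} {x'' y'' : R →+* R₃} (hx : f.comp x = x') (hy : f.comp y = y')
    (hx' : g.comp x' = x'') (hy' : g.comp y' = y'') (hx'' : (g.comp f).comp x = x'') (hy'' : (g.comp f).comp y = y'')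
    (a : Hom x y), pull g hx' hy' (pull f hx hy a) = pull (g.comp f) hx'' hy'' a

/-- Functors between groupoids of points over the same `R`. -/
structure PGpd.Fun {R : Type u} [CommRing R] (P P' : PGpd.{u} R) where
  /-- the map on arrows -/
  app : ∀ {R' : Type u} [CommRing R'] {x y : R →+* R'}, P.Hom x y → P'.Hom x y
  app_id : ∀ {R' : Type u} [CommRing R'] (x : R →+* R'), app (P.id x) = P'.id x
  app_comp : ∀ {R' : Type u} [CommRing R'] {x y z : R →+* R'} (a : P.Hom x y) (b : P.Hom y z),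
    app (P.comp a b) = P'.comp (app a) (app b)
  app_pull : ∀ {R' R'' : Type u} [CommRing R'] [CommRing R''] (f : R' →+* R'') {x y : R →+* R'} {x' y' : R →+* R''}
    (hx : f.comp x = x') (hy : f.comp y = y') (a : P.Hom x y), app (P.pull f hx hy a) = P'.pull f hx hy (app a)

section

variable {R : Type u} [CommRing R] (P : PGpd.{u} R)

/-- An `R`-module with an action of the arrows (a comodule, at all points). -/
structure EqMod (M : Type u) [AddCommGroup M] [Module R M] where
  /-- the action -/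
  act : ∀ {R' : Type u} [CommRing R'] {x y : R →+* R'}, P.Hom x y → (BC x M ≃ₗ[R'] BC y M)
  act_id : ∀ {R' : Type u} [CommRing R'] (x : R →+* R'), act (P.id x) = LinearEquiv.refl R' _
  act_comp : ∀ {R' : Type u} [CommRing R'] {x y z : R →+* R'} (a : P.Hom x y) (b : P.Hom y z),
    act (P.comp a b) = (act a).trans (act b)
  act_pull : ∀ {R' R'' : Type u} [CommRing R'] [CommRing R''] (f : R' →+* R'') {x y : R →+* R'} {x' y' : R →+* R''}
    (hx : f.comp x = x') (hy : f.comp y = y') (a : P.Hom x y), act (P.pull f hx hy a) = BC.pullE f hx hy (act a)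

/-- The multiplication of `D`, as a bilinear map over `R`. -/
def mulR (R : Type u) [CommRing R] (D : Type u) [CommRing D] [Algebra R D] : D →ₗ[R] D →ₗ[R] D := LinearMap.mul R D

/-- The action of `Q` on `K`, as a bilinear map over `R`. -/
def smulR (R : Type u) [CommRing R] (Q : Type u) [CommRing Q] [Algebra R Q] (K : Type u) [AddCommGroup K] [Module R K]
    [Module Q K] [IsScalarTower R Q K] : Q →ₗ[R] K →ₗ[R] K where
  toFun q := { toFun := fun v => q • v
               map_add' := smul_add q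
               map_smul' := fun r v => smul_comm q r v }
  map_add' a b := by ext v; exact add_smul a b v
  map_smul' r a := by ext v; exact smul_assoc r a v

@[simp] theorem smulR_apply {Q : Type u} [CommRing Q] [Algebra R Q] {K : Type u} [AddCommGroup K] [Module R K]
    [Module Q K] [IsScalarTower R Q K] (q : Q) (v : K) : smulR R Q K q v = q • v := rfl

/-- An `R`-algebra with an action of the arrows. -/
structure EqAlg (D : Type u) [CommRing D] [Algebra R D] extends EqMod P D where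
  act_mul : ∀ {R' : Type u} [CommRing R'] {x y : R →+* R'} (a : P.Hom x y) (d d' : BC x D),
    act a (BC.bil x (mulR R D) d d') = BC.bil y (mulR R D) (act a d) (act a d')
  act_one : ∀ {R' : Type u} [CommRing R'] {x y : R →+* R'} (a : P.Hom x y), act a (bc x 1) = bc y 1

/-! ### the package -/

/-- The base change of a submodule, as a submodule of the base change. -/
def subBC {R' : Type v} [CommRing R'] (x : R →+* R') {M : Type w} [AddCommGroup M] [Module R M] (S : Submodule R M) :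
    Submodule R' (BC x M) := LinearMap.range (BC.map x S.subtype)

/-- The operators over `R'` coming from a submodule of operators over `R`. -/
def opBC {R' : Type v} [CommRing R'] (x : R →+* R') {K : Type w} [AddCommGroup K] [Module R K]
    (S : Submodule R (K →ₗ[R] K)) : Submodule R' (BC x K →ₗ[R'] BC x K) := (subBC x S).map (BC.emb x)

/-- The filtered complex with its operators over `R`. -/
structure OpCpx (R : Type u) [CommRing R] where
  /-- the algebra `D` (an affine chart of `Y_0`) -/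
  D : Type u
  [ringD : CommRing D]
  [algD : Algebra R D]
  /-- the thickening `P_S = PP / Fil^(k+1)` -/
  Q : Type u
  [ringQ : CommRing Q]
  [algQ : Algebra R Q]
  /-- `P_S → D` -/
  π : Q →ₐ[R] D
  π_surj : Function.Surjective π
  finQ : Algebra.FiniteType R Q
  /-- the total module of the complex `KK_S` -/
  K : Type u
  [acgK : AddCommGroup K]
  [modK : Module R K]
  [modQK : Module Q K]
  [tower : IsScalarTower R Q K]
  finK : Module.Finite Q K
  /-- the length of the complex -/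
  e : ℕ
  /-- the length of the filtration -/
  k : ℕ
  /-- the differential -/
  d : K →ₗ[Q] K
  /-- the projection to the part of degree `-i`, `0 ≤ i ≤ e` -/
  pr : Fin (e + 1) → K →ₗ[Q] K
  pr_idem : ∀ i, pr i ∘ₗ pr i = pr i
  pr_orth : ∀ i j, i ≠ j → pr i ∘ₗ pr j = 0
  pr_sum : ∀ v, ∑ i, pr i v = v
  d_pr : ∀ (i : Fin e) (v : K), d (pr i.succ v) = pr i.castSucc (d v)
  d_pr_zero : ∀ v, d (pr 0 v) = 0
  d_d : ∀ v, d (d v) = 0
  /-- the filtration of the complex -/
  F : ℕ → Submodule Q K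
  F_zero : F 0 = ⊤
  F_succ : ∀ n, F (n + 1) ≤ F n
  F_last : F (k + 1) = ⊥
  F_d : ∀ n, ∀ v ∈ F n, d v ∈ F n
  F_pr : ∀ n i, ∀ v ∈ F n, pr i v ∈ F n
  /-- `P_S` acts on the graded pieces through `D` -/
  F_ker : ∀ n (q : Q), π q = 0 → ∀ v ∈ F n, q • v ∈ F (n + 1)
  /-- the operators `DD^(j)` -/
  DD : ℕ → Submodule R (K →ₗ[R] K)
  DD_succ : ∀ j, DD (j + 1) ≤ DD j
  DD_last : DD (k + 1) = ⊥
  DD_mul : ∀ i j, ∀ S ∈ DD i, ∀ T ∈ DD j, S ∘ₗ T ∈ DD (i + j)
  DD_F : ∀ j n, ∀ S ∈ DD j, ∀ v ∈ F n, S v ∈ F (n + j)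
  DD_d : ∀ j, ∀ S ∈ DD j, ∀ v, S (d v) = d (S v)
  DD_pr : ∀ j, ∀ S ∈ DD j, ∀ i v, S (pr i v) = pr i (S v)
  /-- `DD^(j)` is a left `P_S`-module -/
  DD_Q : ∀ j (q : Q), ∀ S ∈ DD j, smulR R Q K q ∘ₗ S ∈ DD j
  DD_ker : ∀ j (q : Q), π q = 0 → ∀ S ∈ DD j, smulR R Q K q ∘ₗ S ∈ DD (j + 1)
  /-- `DD^(1)` is a finite left `P_S`-module -/
  DD_gen : ∃ s : Finset (K →ₗ[R] K), (∀ S ∈ s, S ∈ DD 1) ∧
    ∀ T ∈ DD 1, ∃ c : (K →ₗ[R] K) → Q, T = ∑ S ∈ s, smulR R Q K (c S) ∘ₗ S
  /-- operators over a flat point -/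
  emb_inj : ∀ {R' : Type u} [CommRing R'] (x : R →+* R') (_ : x.Flat),
    Function.Injective (fun T : BC x (DD 1) => BC.emb x (BC.map x (DD 1).subtype T))

attribute [instance] OpCpx.ringD OpCpx.algD OpCpx.ringQ OpCpx.algQ OpCpx.acgK OpCpx.modK OpCpx.modQK OpCpx.tower

namespace OpCpx

variable {R : Type u} [CommRing R] (X : OpCpx.{u} R) {R' : Type u} [CommRing R'] (x : R →+* R')

/-- The filtration over `R'`. -/
def Fx (n : ℕ) : Submodule R' (BC x X.K) := subBC x ((X.F n).restrictScalars R)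

/-- The operators over `R'`. -/
def DDx (j : ℕ) : Submodule R' (BC x X.K →ₗ[R'] BC x X.K) := opBC x (X.DD j)

/-- The differential over `R'`. -/
def dx : BC x X.K →ₗ[R'] BC x X.K := BC.map x (X.d.restrictScalars R)

/-- The projections over `R'`. -/
def prx (i : Fin (X.e + 1)) : BC x X.K →ₗ[R'] BC x X.K := BC.map x ((X.pr i).restrictScalars R)

/-- The action of `P_S` over `R'`. -/
def actQ (q : BC x X.Q) : BC x X.K →ₗ[R'] BC x X.K := BC.bil x (smulR R X.Q X.K) q

/-- `P_S → D` over `R'`. -/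
def πx : BC x X.Q →ₗ[R'] BC x X.D := BC.map x X.π.toLinearMap

end OpCpx

/-- The lifts of the arrows of `P` to the complex. -/
structure AlgPkg {R : Type u} [CommRing R] (P : PGpd.{u} R) extends OpCpx.{u} R where
  /-- the arrows act on `D` -/
  eta : EqAlg P D
  /-- the lifts of an arrow -/
  L : ∀ {R' : Type u} [CommRing R'] {x y : R →+* R'}, P.Hom x y → Set (BC x K ≃ₗ[R'] BC y K)
  L_ne : ∀ {R' : Type u} [CommRing R'] {x y : R →+* R'} (a : P.Hom x y), x.Flat → y.Flat → (L a).Nonempty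
  L_one : ∀ {R' : Type u} [CommRing R'] (x : R →+* R') (ψ : BC x K ≃ₗ[R'] BC x K), x.Flat →
    (ψ ∈ L (P.id x) ↔ ∃ T ∈ toOpCpx.DDx x 1, ∀ v, ψ v = v + T v)
  L_comp : ∀ {R' : Type u} [CommRing R'] {x y z : R →+* R'} (a : P.Hom x y) (b : P.Hom y z), x.Flat → y.Flat → z.Flat →
    ∀ ψ ∈ L a, ∀ χ ∈ L b, ψ.trans χ ∈ L (P.comp a b)
  L_inv : ∀ {R' : Type u} [CommRing R'] {x y : R →+* R'} (a : P.Hom x y), x.Flat → y.Flat →
    ∀ ψ ∈ L a, ψ.symm ∈ L (P.inv a)
  L_pull : ∀ {R' R'' : Type u} [CommRing R'] [CommRing R''] (f : R' →+* R'') {x y : R →+* R'} {x' y' : R →+* R''}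
    (hx : f.comp x = x') (hy : f.comp y = y') (a : P.Hom x y), x.Flat → y.Flat → x'.Flat → y'.Flat →
    ∀ ψ ∈ L a, BC.pullE f hx hy ψ ∈ L (P.pull f hx hy a)
  L_d : ∀ {R' : Type u} [CommRing R'] {x y : R →+* R'} (a : P.Hom x y), x.Flat → y.Flat → ∀ ψ ∈ L a, ∀ v,
    ψ (toOpCpx.dx x v) = toOpCpx.dx y (ψ v)
  L_pr : ∀ {R' : Type u} [CommRing R'] {x y : R →+* R'} (a : P.Hom x y), x.Flat → y.Flat → ∀ ψ ∈ L a, ∀ i v,
    ψ (toOpCpx.prx x i v) = toOpCpx.prx y i (ψ v)
  L_F : ∀ {R' : Type u} [CommRing R'] {x y : R →+* R'} (a : P.Hom x y), x.Flat → y.Flat → ∀ ψ ∈ L a, ∀ n,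
    ∀ v ∈ toOpCpx.Fx x n, ψ v ∈ toOpCpx.Fx y n
  /-- conjugation -/
  L_conj : ∀ {R' : Type u} [CommRing R'] {x y : R →+* R'} (a : P.Hom x y), x.Flat → y.Flat → ∀ ψ ∈ L a, ∀ j, 1 ≤ j →
    ∀ T ∈ toOpCpx.DDx x j, ψ.toLinearMap ∘ₗ T ∘ₗ ψ.symm.toLinearMap ∈ toOpCpx.DDx y j
  /-- a lift is semilinear on the graded pieces of `K` -/
  L_semF : ∀ {R' : Type u} [CommRing R'] {x y : R →+* R'} (a : P.Hom x y), x.Flat → y.Flat → ∀ ψ ∈ L a, ∀ n,
    ∀ (q : BC x Q) (q' : BC y Q), eta.act a (toOpCpx.πx x q) = toOpCpx.πx y q' → ∀ v ∈ toOpCpx.Fx x n,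
      ψ (toOpCpx.actQ x q v) - toOpCpx.actQ y q' (ψ v) ∈ toOpCpx.Fx y (n + 1)
  /-- conjugation by a lift is semilinear on the graded pieces of `DD` -/
  L_semD : ∀ {R' : Type u} [CommRing R'] {x y : R →+* R'} (a : P.Hom x y), x.Flat → y.Flat → ∀ ψ ∈ L a, ∀ j, 1 ≤ j →
    ∀ (q : BC x Q) (q' : BC y Q), eta.act a (toOpCpx.πx x q) = toOpCpx.πx y q' → ∀ T ∈ toOpCpx.DDx x j,
      ψ.toLinearMap ∘ₗ (toOpCpx.actQ x q ∘ₗ T) ∘ₗ ψ.symm.toLinearMap -
        toOpCpx.actQ y q' ∘ₗ (ψ.toLinearMap ∘ₗ T ∘ₗ ψ.symm.toLinearMap) ∈ toOpCpx.DDx y (j + 1)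

end

end Groth.Agent.ResProp.EF.K980
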