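import Groth.Agent.ResProp.EF.Arch
import Groth.Agent.ResProp.EF.K208.Pts
import Groth.Agent.ResProp.EF.K980.Alg

/-!
# The seam PRODUCER | CONSUMER of the algebra block (helper980).  DEFINITIONS AND STATEMENTS.

* `OpCpx.cpx` : the complex of `R`-modules of an `OpCpx` (degrees `[-e, 0]`); `OpCpx.Amp` : Tor-amplitude and `H^0 ↠ D`.
* `xp k A B n i : R → B ⊗ A⟨n⟩` the `i`-th vertex, `lv` the maps between the levels.
* `Lev` : arrows `ar B n i j h` of a groupoid of points `P` between the vertices, for a `B`-valued point `h` of `H`.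
* `ALGOut c` : what the producer (G3 + G4) delivers for a cover datum `c`: `P`, `lev`, an `AlgPkg P` with `D = D⟨0⟩`, the
  action of the arrows on `D` being the `Γ`-coaction and the `H`-coaction of `c`, and `Amp`.
* `StmtProd : CoverDatum → ALGOut`, `StmtCons : ALGOut → KernelDatum`.
-/

set_option autoImplicit false
set_option linter.dupNamespace false

open CategoryTheory Opposite TensorProduct

noncomputable section

namespace Groth.Agent.ResProp.EF.K980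

open K784.BC K784.PM K741.RP EF56 K294 Grp Arch

universe u

/-! ### the complex of an `OpCpx` -/

namespace OpCpx

variable {R : Type u} [CommRing R] (X : OpCpx.{u} R)

/-- the projection to the part of degree `n` -/
def prz (n : ℤ) : X.K →ₗ[X.Q] X.K :=
  if h : 0 ≤ -n ∧ (-n).toNat < X.e + 1 then X.pr ⟨(-n).toNat, h.2⟩ else 0

theorem prz_neg (i : Fin (X.e + 1)) : X.prz (-(i.1 : ℤ)) = X.pr i := by
  have h : 0 ≤ -(-(i.1 : ℤ)) ∧ (-(-(i.1 : ℤ))).toNat < X.e + 1 := ⟨by omega, by omega⟩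
  rw [prz, dif_pos h]
  congr 1
  apply Fin.ext
  show (-(-(i.1 : ℤ))).toNat = i.1
  omega

theorem prz_of_not (n : ℤ) (h : n < -(X.e : ℤ) ∨ 0 < n) : X.prz n = 0 := by
  rw [prz, dif_neg]
  rintro ⟨h1, h2⟩
  omega

theorem pr_last_d (v : X.K) : X.pr (Fin.last X.e) (X.d v) = 0 := by
  have h1 : X.d v = ∑ i, X.d (X.pr i v) := by rw [← map_sum, X.pr_sum]
  rw [h1, map_sum]
  refine Finset.sum_eq_zero fun i _ => ?_
  refine Fin.cases ?_ (fun j => ?_) i
  · rw [X.d_pr_zero, map_zero]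
  · rw [X.d_pr]
    have h2 := X.pr_orth (Fin.last X.e) j.castSucc (Fin.castSucc_lt_last j).ne'
    exact LinearMap.congr_fun h2 _

theorem d_prz (n : ℤ) (v : X.K) : X.d (X.prz n v) = X.prz (n + 1) (X.d v) := by
  by_cases h : n < -(X.e : ℤ) ∨ 0 < n
  · rw [X.prz_of_not n h, LinearMap.zero_apply, map_zero]
    by_cases h' : n + 1 = -(X.e : ℤ)
    · rw [h']
      have := X.prz_neg (Fin.last X.e)
      rw [Fin.val_last] at this
      rw [this, X.pr_last_d]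
    · rw [X.prz_of_not (n + 1) (by omega), LinearMap.zero_apply]
  · push Not at h
    obtain ⟨m, hm⟩ : ∃ m : ℕ, n = -(m : ℤ) := ⟨(-n).toNat, by omega⟩
    subst hm
    rcases Nat.eq_zero_or_pos m with rfl | hm
    · have e0 := X.prz_neg 0
      simp only [Fin.val_zero] at e0
      rw [e0, X.d_pr_zero, X.prz_of_not _ (by omega), LinearMap.zero_apply]
    · have e1 := X.prz_neg (Fin.succ ⟨m - 1, by omega⟩ : Fin (X.e + 1))
      have e2 := X.prz_neg (Fin.castSucc ⟨m - 1, by omega⟩ : Fin (X.e + 1))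
      have e3 : (-(((Fin.succ (⟨m - 1, by omega⟩ : Fin X.e)).1 : ℕ) : ℤ)) = -(m : ℤ) := by
        rw [Fin.val_succ]; simp only; omega
      have e4 : (-(((Fin.castSucc (⟨m - 1, by omega⟩ : Fin X.e)).1 : ℕ) : ℤ)) = -(m : ℤ) + 1 := by
        rw [Fin.val_castSucc]; simp only; omega
      rw [e3] at e1
      rw [e4] at e2
      rw [e1, e2, X.d_pr]

/-- the part of degree `n` -/
def deg (n : ℤ) : Submodule X.Q X.K := LinearMap.range (X.prz n)

/-- the differential in degree `n` -/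
def dn (n : ℤ) : X.deg n →ₗ[X.Q] X.deg (n + 1) :=
  X.d.restrict (p := X.deg n) (q := X.deg (n + 1)) (by
    rintro _ ⟨v, rfl⟩
    exact ⟨X.d v, (X.d_prz n v).symm⟩)

theorem dn_dn (n : ℤ) (v : X.deg n) : X.dn (n + 1) (X.dn n v) = 0 := Subtype.ext (X.d_d v.1)

/-- the complex of `R`-modules, in degrees `[-e, 0]` -/
def cpx : CM R :=
  CochainComplex.of (fun n => ModuleCat.of R (X.deg n)) (fun n => ModuleCat.ofHom ((X.dn n).restrictScalars R))
    (fun n => by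
      apply ModuleCat.hom_ext
      exact LinearMap.ext (X.dn_dn n))

/-- Tor-amplitude `[-e, 0]` and `H^0 ↠ D`. -/
structure Amp where
  /-- the augmentation `K → D` -/
  aug : X.K →ₗ[R] X.D
  aug_surj : Function.Surjective aug
  aug_d : ∀ v, aug (X.d v) = 0
  aug_pr : ∀ v, aug (X.pr 0 v) = aug v
  tor : TorGE (-X.e : ℤ) X.cpx

end OpCpx

/-! ### levels -/

section Lev

variable (k : Type u) [CommRing k] (A : NFᵒᵖ ⥤ CommRingCat.{u}) [GRF k A]

/-- the maps of `A` are `k`-linear -/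
def rgk {a b : NF} (φ : a ⟶ b) : A.obj (op b) →ₐ[k] A.obj (op a) := { rg A φ with commutes' := GRF.map_k φ }

/-- the `i`-th vertex `R → B ⊗ A⟨n⟩` -/
def xp (B : Type u) [CommRing B] [Algebra k B] (n : ℕ) (i : Fin (n + 1)) :
    A.obj (op ⟨0⟩) →+* B ⊗[k] A.obj (op ⟨n⟩) :=
  (Algebra.TensorProduct.includeRight (R := k) (A := B) (B := A.obj (op ⟨n⟩))).toRingHom.comp (rg A (pt ⟨n⟩ i))

/-- the map `⟨n⟩ ⟶ ⟨m⟩` of a map of vertices -/
def vmap {m n : ℕ} (a : Fin (m + 1) → Fin (n + 1)) : (⟨n⟩ : NF) ⟶ ⟨m⟩ := a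

/-- the maps between the levels -/
def lv {B C : Type u} [CommRing B] [Algebra k B] [CommRing C] [Algebra k C] (f : B →ₐ[k] C) {m n : ℕ}
    (a : Fin (m + 1) → Fin (n + 1)) : B ⊗[k] A.obj (op ⟨m⟩) →+* C ⊗[k] A.obj (op ⟨n⟩) :=
  (Algebra.TensorProduct.map f (rgk k A (vmap a))).toRingHom

theorem lv_xp {B C : Type u} [CommRing B] [Algebra k B] [CommRing C] [Algebra k C] (f : B →ₐ[k] C) {m n : ℕ}
    (a : Fin (m + 1) → Fin (n + 1)) (i : Fin (m + 1)) : (lv k A f a).comp (xp k A B m i) = xp k A C n (a i) := by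
  ext r
  show Algebra.TensorProduct.map f (rgk k A (vmap a)) (1 ⊗ₜ rg A (pt ⟨m⟩ i) r) = 1 ⊗ₜ rg A (pt ⟨n⟩ (a i)) r
  rw [Algebra.TensorProduct.map_tmul, map_one]
  congr 1
  show rg A (vmap a) (rg A (pt ⟨m⟩ i) r) = _
  rw [← RingHom.comp_apply, ← rg_comp]
  rfl

/-- arrows of `P` between the vertices of the levels `B ⊗ A⟨n⟩` -/
structure Lev (H : K104.GFun k) (P : PGpd.{u} (A.obj (op ⟨0⟩))) where
  ar : ∀ (B : Type u) [CommRing B] [Algebra k B] (n : ℕ) (i j : Fin (n + 1)), H.pt B →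
    P.Hom (xp k A B n i) (xp k A B n j)
  ar_one : ∀ (B : Type u) [CommRing B] [Algebra k B] (n : ℕ) (i : Fin (n + 1)), ar B n i i 1 = P.id _
  ar_comp : ∀ (B : Type u) [CommRing B] [Algebra k B] (n : ℕ) (i j l : Fin (n + 1)) (h h' : H.pt B),
    P.comp (ar B n i j h) (ar B n j l h') = ar B n i l (h' * h)
  ar_pull : ∀ {B C : Type u} [CommRing B] [Algebra k B] [CommRing C] [Algebra k C] (f : B →ₐ[k] C) {m n : ℕ}
    (a : Fin (m + 1) → Fin (n + 1)) (i j : Fin (m + 1)) (h : H.pt B),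
    P.pull (lv k A f a) (lv_xp k A f a i) (lv_xp k A f a j) (ar B m i j h) = ar C n (a i) (a j) (H.map f h)

end Lev

/-! ### the output of the producer -/

section Out

variable {k : Type u} [CommRing k] {A : NFᵒᵖ ⥤ CommRingCat.{u}} [GRF k A] {x : PrimeSpectrum (A.obj (op ⟨0⟩))}
  (c : CoverDatum k A x)

/-- `B ⊗ A⟨n⟩ → B ⊗ D⟨n⟩` -/
def lvD (B : Type u) [CommRing B] [Algebra k B] (n : ℕ) :
    B ⊗[k] A.obj (op ⟨n⟩) →+* B ⊗[k] c.Y.D.obj (op ⟨n⟩) :=
  (Algebra.TensorProduct.map (AlgHom.id k B)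
    (IsScalarTower.toAlgHom k (A.obj (op ⟨n⟩)) (c.Y.D.obj (op ⟨n⟩)))).toRingHom

/-- the `i`-th vertex of `D`: `(B ⊗ A⟨n⟩) ⊗_(x_i) D⟨0⟩ → B ⊗ D⟨n⟩` (bijective) -/
def vtxD (B : Type u) [CommRing B] [Algebra k B] (n : ℕ) (i : Fin (n + 1)) :
    BC (xp k A B n i) (c.Y.D.obj (op ⟨0⟩)) →ₛₗ[lvD c B n] B ⊗[k] c.Y.D.obj (op ⟨n⟩) :=
  BC.lift (σ := lvD c B n) (τ := (lvD c B n).comp (xp k A B n i)) rfl
    { toFun := fun d => 1 ⊗ₜ rg c.Y.D (pt ⟨n⟩ i) d
      map_add' := fun d d' => by rw [map_add, TensorProduct.tmul_add]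
      map_smul' := fun r d => by
        have h := congrArg (fun f => f.hom r) (c.Y.j.naturality (pt ⟨n⟩ i).op)
        have h' : rg c.Y.D (pt ⟨n⟩ i) (algebraMap (A.obj (op ⟨0⟩)) (c.Y.D.obj (op ⟨0⟩)) r) =
            algebraMap (A.obj (op ⟨n⟩)) (c.Y.D.obj (op ⟨n⟩)) (rg A (pt ⟨n⟩ i) r) := h.symm
        rw [Algebra.smul_def, map_mul, h']
        show _ = (Algebra.TensorProduct.map (AlgHom.id k B)
          (IsScalarTower.toAlgHom k (A.obj (op ⟨n⟩)) (c.Y.D.obj (op ⟨n⟩)))) (1 ⊗ₜ rg A (pt ⟨n⟩ i) r) * _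
        rw [Algebra.TensorProduct.map_tmul, Algebra.TensorProduct.tmul_mul_tmul, map_one, mul_one]
        rfl }

/-- the action of a point `h : O(H) → B` on `D⟨n⟩`, with values in `B ⊗ D⟨n⟩` -/
def hAct (B : Type u) [CommRing B] [Algebra k B] (n : ℕ) (h : c.H.O →ₐ[k] B) :
    c.Y.D.obj (op ⟨n⟩) →ₗ[k] B ⊗[k] c.Y.D.obj (op ⟨n⟩) :=
  (TensorProduct.comm k (c.Y.D.obj (op ⟨n⟩)) B).toLinearMap ∘ₗ
    h.toLinearMap.lTensor (c.Y.D.obj (op ⟨n⟩)) ∘ₗ (c.ρ ⟨n⟩).ρ.toLinearMap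

/-- the arrows act on `D` through the coactions of the cover datum -/
def EtaMatch {P : PGpd.{u} (A.obj (op ⟨0⟩))} (L : Lev k A (K208.pts c.H) P)
    (act : ∀ {R' : Type u} [CommRing R'] {y z : A.obj (op ⟨0⟩) →+* R'}, P.Hom y z →
      BC y (c.Y.D.obj (op ⟨0⟩)) → BC z (c.Y.D.obj (op ⟨0⟩))) : Prop :=
  ∀ (B : Type u) [CommRing B] [Algebra k B] [Module.Flat k B] (n : ℕ) (i j : Fin (n + 1)) (h : (K208.pts c.H).pt B)
    (d : c.Y.D.obj (op ⟨0⟩)),
    vtxD c B n j (act (L.ar B n i j h) (bc _ d)) = hAct c B n h.ofConv (rg c.Y.D (pt ⟨n⟩ i) d)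

/-- **the output of the producer (G3 + G4)** -/
structure ALGOut : Type (u + 1) where
  P : PGpd.{u} (A.obj (op ⟨0⟩))
  lev : Lev k A (K208.pts c.H) P
  X : AlgPkg P
  /-- the algebra `D` of the package is `D⟨0⟩` -/
  iD : X.D ≃ₐ[A.obj (op ⟨0⟩)] c.Y.D.obj (op ⟨0⟩)
  eta_match : EtaMatch c lev (fun {_} [CommRing _] {y z} a v =>
    BC.map z iD.toLinearMap (X.eta.act a (BC.map y iD.symm.toLinearMap v)))
  amp : X.toOpCpx.Amp

end Out

/-- **PRODUCER** -/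
def StmtProd : Prop := ∀ (p : ℕ) (k : Type u) [CommRing k] [IsLb p k] (A : NFᵒᵖ ⥤ CommRingCat.{u}) [GRF k A]
  (x : PrimeSpectrum (A.obj (op ⟨0⟩))) (c : CoverDatum k A x), Nonempty (ALGOut c)

/-- **CONSUMER** -/
def StmtCons : Prop := ∀ (p : ℕ) (k : Type u) [CommRing k] [IsLb p k] (A : NFᵒᵖ ⥤ CommRingCat.{u}) [GRF k A]
  (x : PrimeSpectrum (A.obj (op ⟨0⟩))) (c : CoverDatum k A x), ALGOut c → Nonempty (KernelDatum c)

theorem stmtKernel (h1 : StmtProd.{u}) (h2 : StmtCons.{u}) : StmtKernel.{u} := by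
  intro p k _ _ A _ x c
  obtain ⟨o⟩ := h1 p k A x c
  exact h2 p k A x c o

end Groth.Agent.ResProp.EF.K980
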