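import Groth.Agent.ResProp.EF.K980.Nodes

/-!
# Pull-back of an algebra package along a functor of groupoids of points (helper980)
-/

set_option autoImplicit false

universe u

noncomputable section

namespace Groth.Agent.ResProp.EF.K980

variable {R : Type u} [CommRing R]

/-- the identity functor -/
def PGpd.Fun.refl (P : PGpd.{u} R) : PGpd.Fun P P where
  app a := a
  app_id _ := rfl
  app_comp _ _ := rfl
  app_pull := by intros; rfl

/-- composition of functors -/
def PGpd.Fun.comp {P P' P'' : PGpd.{u} R} (F : PGpd.Fun P P') (G : PGpd.Fun P' P'') : PGpd.Fun P P'' where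
  app a := G.app (F.app a)
  app_id x := by rw [F.app_id, G.app_id]
  app_comp a b := by rw [F.app_comp, G.app_comp]
  app_pull := by intro R' R'' _ _ f x y x' y' hx hy a; rw [F.app_pull, G.app_pull]

theorem PGpd.Fun.app_inv {P P' : PGpd.{u} R} (F : PGpd.Fun P P') {R' : Type u} [CommRing R'] {x y : R →+* R'}
    (a : P.Hom x y) : F.app (P.inv a) = P'.inv (F.app a) := by
  have h : P'.comp (F.app (P.inv a)) (F.app a) = P'.id y := by rw [← F.app_comp, P.inv_comp, F.app_id]
  calc F.app (P.inv a) = P'.comp (F.app (P.inv a)) (P'.id x) := (P'.comp_id _).symm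
    _ = P'.comp (F.app (P.inv a)) (P'.comp (F.app a) (P'.inv (F.app a))) := by rw [P'.comp_inv]
    _ = P'.inv (F.app a) := by rw [← P'.comp_assoc, h, P'.id_comp]

variable {P P' : PGpd.{u} R} (F : PGpd.Fun P P')

/-- pull-back of a module -/
def EqMod.comap {M : Type u} [AddCommGroup M] [Module R M] (E : EqMod P' M) : EqMod P M where
  act a := E.act (F.app a)
  act_id x := by rw [F.app_id, E.act_id]
  act_comp a b := by rw [F.app_comp, E.act_comp]
  act_pull := by intro R' R'' _ _ f x y x' y' hx hy a; rw [F.app_pull, E.act_pull]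

/-- pull-back of an algebra -/
def EqAlg.comap {D : Type u} [CommRing D] [Algebra R D] (E : EqAlg P' D) : EqAlg P D where
  toEqMod := E.toEqMod.comap F
  act_mul a := E.act_mul (F.app a)
  act_one a := E.act_one (F.app a)

/-- pull-back of an algebra package -/
def AlgPkg.comap (X : AlgPkg P') : AlgPkg P where
  toOpCpx := X.toOpCpx
  eta := X.eta.comap F
  L a := X.L (F.app a)
  L_ne a := X.L_ne (F.app a)
  L_one x ψ hx := by rw [F.app_id]; exact X.L_one x ψ hx
  L_comp a b hx hy hz ψ hψ χ hχ := by rw [F.app_comp]; exact X.L_comp _ _ hx hy hz ψ hψ χ hχ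
  L_inv a hx hy ψ hψ := by rw [F.app_inv]; exact X.L_inv _ hx hy ψ hψ
  L_pull := by
    intro R' R'' _ _ f x y x' y' hx hy a h1 h2 h3 h4 ψ hψ
    rw [F.app_pull]
    exact X.L_pull f hx hy _ h1 h2 h3 h4 ψ hψ
  L_d a := X.L_d (F.app a)
  L_pr a := X.L_pr (F.app a)
  L_F a := X.L_F (F.app a)
  L_conj a := X.L_conj (F.app a)
  L_semF a := X.L_semF (F.app a)
  L_semD a := X.L_semD (F.app a)

/-! ### transport of `D` -/

/-- transport of the action along an isomorphism of algebras -/
def EqAlg.congr {D D' : Type u} [CommRing D] [Algebra R D] [CommRing D'] [Algebra R D'] (i : D ≃ₐ[R] D')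
    (E : EqAlg P D) : EqAlg P D' where
  act {R' _ x y} a := (BC.congr (x := x) i.symm.toLinearEquiv).trans ((E.act a).trans (BC.congr (x := y) i.toLinearEquiv))
  act_id {R' _} x := by
    rw [E.act_id]
    refine LinearEquiv.toLinearMap_injective (BC.hom_ext fun d => ?_)
    show BC.map x i.toLinearMap (BC.map x i.symm.toLinearMap (bc x d)) = bc x d
    rw [BC.map_bc, BC.map_bc]
    exact congrArg (bc x) (i.apply_symm_apply d)
  act_comp {R' _ x y z} a b := by
    rw [E.act_comp]
    refine LinearEquiv.toLinearMap_injective (BC.hom_ext fun d => ?_)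
    show BC.map z i.toLinearMap (E.act b (E.act a (BC.map x i.symm.toLinearMap (bc x d)))) =
      BC.map z i.toLinearMap (E.act b (BC.map y i.symm.toLinearMap
        (BC.map y i.toLinearMap (E.act a (BC.map x i.symm.toLinearMap (bc x d))))))
    rw [BC.map_map]
    have : i.symm.toLinearMap ∘ₗ i.toLinearMap = (LinearMap.id : D →ₗ[R] D) := by
      ext d
      exact i.symm_apply_apply d
    rw [this, BC.map_id]
    rfl
  act_pull := by
    intro R' R'' _ _ f x y x' y' hx hy a
    rw [E.act_pull]
    refine LinearEquiv.toLinearMap_injective (BC.hom_ext_tr hx fun d => ?_)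
    show BC.map y' i.toLinearMap (BC.pullE f hx hy (E.act a) (BC.map x' i.symm.toLinearMap (BC.tr f hx d))) =
      BC.pullE f hx hy ((BC.congr (x := x) i.symm.toLinearEquiv).trans
        ((E.act a).trans (BC.congr (x := y) i.toLinearEquiv))) (BC.tr f hx d)
    rw [BC.pullE_tr, ← BC.tr_map, BC.pullE_tr, ← BC.tr_map]
    rfl
  act_mul {R' _ x y} a d d' := by
    show BC.map y i.toLinearMap (E.act a (BC.map x i.symm.toLinearMap (BC.bil x (mulR R D') d d'))) =
      BC.bil y (mulR R D') (BC.map y i.toLinearMap (E.act a (BC.map x i.symm.toLinearMap d)))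
        (BC.map y i.toLinearMap (E.act a (BC.map x i.symm.toLinearMap d')))
    have key : ∀ {S : Type u} [CommRing S] (z : R →+* S) {D₁ D₂ : Type u} [CommRing D₁] [Algebra R D₁] [CommRing D₂]
        [Algebra R D₂] (j : D₁ ≃ₐ[R] D₂) (d d' : BC z D₁), BC.map z j.toLinearMap (BC.bil z (mulR R D₁) d d') =
          BC.bil z (mulR R D₂) (BC.map z j.toLinearMap d) (BC.map z j.toLinearMap d') := by
      intro S _ z D₁ D₂ _ _ _ _ j d d'
      induction d using BC.ind with
      | h0 => simp
      | h1 r m =>
        induction d' using BC.ind with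
        | h0 => simp
        | h1 s n =>
          simp only [map_smul, LinearMap.smul_apply, BC.bil_bc, BC.map_bc]
          congr 3
          exact map_mul j m n
        | h2 a b ha hb => rw [map_add, map_add, ha, hb, map_add, map_add]
      | h2 a b ha hb =>
        rw [map_add, LinearMap.add_apply, map_add, ha, hb, map_add, map_add, LinearMap.add_apply]
    rw [key x i.symm, E.act_mul, key y i]
  act_one {R' _ x y} a := by
    show BC.map y i.toLinearMap (E.act a (BC.map x i.symm.toLinearMap (bc x 1))) = bc y 1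
    rw [BC.map_bc]
    have h1 : i.symm.toLinearMap (1 : D') = 1 := map_one i.symm
    rw [h1, E.act_one, BC.map_bc]
    exact congrArg (bc y) (map_one i)

end Groth.Agent.ResProp.EF.K980
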