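import Groth.Agent.ResProp.EF.K980.Nodes
import Groth.Agent.ResProp.EF.K396.Terms

/-!
# `OpCpx.cpx` and `OpCpx.Amp` (Nodes.lean) against `K396.cxR`, `K396.AmpTop` and `K454.opGr` (helper980)
-/

set_option autoImplicit false

universe u

noncomputable section

namespace Groth.Agent.ResProp.EF.K980

open K294

variable {R : Type u} [CommRing R] (X : OpCpx.{u} R)

theorem OpCpx.prz_eq_pz (n : ℤ) : X.prz n = K396.pz X n := by
  rcases K396.pz_cases X n with ⟨i, rfl⟩ | h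
  · rw [K396.pz_neg, X.prz_neg]
  · rw [K396.pz_out X h, X.prz_of_not n h]

theorem OpCpx.deg_eq_Dg (n : ℤ) : X.deg n = K396.Dg X n := by
  show LinearMap.range (X.prz n) = LinearMap.range (K396.pz X n)
  rw [X.prz_eq_pz]

/-- `deg n = Dg n` -/
def OpCpx.degEquiv (n : ℤ) : X.deg n ≃ₗ[R] K396.Dg X n :=
  (LinearEquiv.ofEq _ _ (X.deg_eq_Dg n)).restrictScalars R

theorem OpCpx.degEquiv_val (n : ℤ) (v : X.deg n) : ((X.degEquiv n v : K396.Dg X n) : X.K) = v := rfl

theorem OpCpx.torGE_cxR {a : ℤ} (h : TorGE a X.cpx) : TorGE a (K396.cxR X) :=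
  K396.torGE_cx_congr (M := fun n => X.deg n) (M' := fun n => K396.Dg X n)
    (d := fun n => (X.dn n).restrictScalars R) (dd := X.dn_dn) (d' := K396.dnR X) (dd' := K396.dnR_dnR X)
    X.degEquiv (fun n m => Subtype.ext rfl) h

theorem OpCpx.torGE_cpx {a : ℤ} (h : TorGE a (K396.cxR X)) : TorGE a X.cpx :=
  K396.torGE_cx_congr (M := fun n => K396.Dg X n) (M' := fun n => X.deg n)
    (d := K396.dnR X) (dd := K396.dnR_dnR X) (d' := fun n => (X.dn n).restrictScalars R) (dd' := X.dn_dn)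
    (fun n => (X.degEquiv n).symm) (fun n m => Subtype.ext rfl) h

/-- `Amp` gives helper396's `AmpTop` -/
theorem OpCpx.Amp.ampTop {X : OpCpx.{u} R} (h : X.Amp) : K396.AmpTop X where
  tor := X.torGE_cxR h.tor
  aug := by
    obtain ⟨v, hv⟩ := h.aug_surj 1
    exact ⟨h.aug, h.aug_d, X.pr 0 v, LinearMap.congr_fun (X.pr_idem 0) v, by rw [h.aug_pr, hv]⟩

end Groth.Agent.ResProp.EF.K980
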