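import Groth.Agent.ResProp.EF.K918.StmtE
import Groth.Agent.ResProp.EF.K363.GluedOut

/-!
# The front half of the consumer: `K303.StmtESide` (helper980)

`GrAct o hA ψ hψ hcl` : the `H`-comodule structures of the graded pieces with the facts (h1), (h2), (h3) of 918's `eside_of`
(`levPkg`, `levOp`).  `stmtESide_of` : if it exists for every `o : ALGOut c`, then `K303.StmtESide`; `stmtKernel_of`.
-/

set_option autoImplicit false
set_option linter.dupNamespace false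

open CategoryTheory Opposite TensorProduct

noncomputable section

namespace Groth.Agent.ResProp.EF.K980

open K784.BC K784.PM K741.RP EF56 K294 Grp Arch K104 K208 K649 K661 K959 K959.CoBC K60 K303 K363 K918.StmtE

universe u

section Out

variable {k : Type u} [CommRing k] {A : NFᵒᵖ ⥤ CommRingCat.{u}} [GRF k A] {x : PrimeSpectrum (A.obj (op ⟨0⟩))}
  {c : CoverDatum k A x} (o : ALGOut c) (hA : GR A)
  (ψ : BC ((lvB k hA k).x 1 0) o.X.K ≃ₗ[(lvB k hA k).Rn 1] BC ((lvB k hA k).x 1 1) o.X.K)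
  (hψ : ψ ∈ o.X.L (o.lev.ar k 1 0 1 1)) (hcl : LiftsComm o.X o.lev hA ψ)

/-- the `H`-side on the graded pieces -/
structure GrAct where
  c0 : ∀ m : ℕ, HopfRep.Comod k c.H.O (GrF o.X.toOpCpx m)
  h1 : ∀ (m : ℕ) (B : Type u) [CommRing B] [Algebra k B] [Module.Flat k B] (g : c.H.O →ₐ[k] B),
      ∀ φ ∈ (levPkg o.X o.lev hA ψ hψ hcl).Lift B (mkPt c.H g),
        Compat (incF (k := k) o.X.toOpCpx m) (mkF o.X.toOpCpx m)
          ((levOp o hA ψ hψ hcl).κ B (φ : (levPkg o.X o.lev hA ψ hψ hcl).AA B))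
          (letI := c0 m; K90.op (GrF o.X.toOpCpx m) B g)
  h2 : ∀ (m : ℕ) (B : Type u) [CommRing B] [Algebra k B] [Module.Flat k B],
      ∀ Y ∈ opD (levPkg o.X o.lev hA ψ hψ hcl) B 1,
        Compat (incF (k := k) o.X.toOpCpx m) (mkF o.X.toOpCpx m) ((levOp o hA ψ hψ hcl).κ B Y) 0
  h3 : ∀ (m : ℕ) (q : o.X.Q) (y : o.X.Q ⊗[k] c.H.O), (piK o).rTensor c.H.O y = (c.ρ ⟨0⟩).ρ (piK o q) →
      ∀ g : GrF o.X.toOpCpx m, (c0 m).coact (q • g) =
        TensorProduct.map₂ (Algebra.lsmul k k (GrF o.X.toOpCpx m)).toLinearMap (LinearMap.mul k c.H.O) y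
          ((c0 m).coact g)

end Out

/-- the `H`-side exists for every output of the producer -/
def StmtGrAct : Prop := ∀ (p : ℕ) (k : Type u) [CommRing k] [IsLb p k] (A : NFᵒᵖ ⥤ CommRingCat.{u}) [GRF k A]
  (x : PrimeSpectrum (A.obj (op ⟨0⟩))) (c : CoverDatum k A x) (o : ALGOut c) (hA : GR A)
  (ψ : BC ((lvB k hA k).x 1 0) o.X.K ≃ₗ[(lvB k hA k).Rn 1] BC ((lvB k hA k).x 1 1) o.X.K)
  (hψ : ψ ∈ o.X.L (o.lev.ar k 1 0 1 1)) (hcl : LiftsComm o.X o.lev hA ψ), Nonempty (GrAct o hA ψ hψ hcl)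

/-- **the front half of the consumer** -/
theorem stmtESide_of (h : StmtGrAct.{u}) : K303.StmtESide.{u} := by
  intro p k _ _ A _ x c o
  obtain ⟨ψ, hc, hψ, hs, hl⟩ := glued_out o (GRF.gr (k := k))
  obtain ⟨G⟩ := h p k A x c o (GRF.gr (k := k)) ψ hψ hl
  exact ⟨_, hs, eside_of o (GRF.gr (k := k)) ψ hψ hl hc G.c0 G.h1 G.h2 G.h3⟩

/-- what is left of `StmtKernel` -/
theorem stmtKernel_of (h1 : StmtProd.{u}) (h2 : StmtGrAct.{u}) (h3 : K303.StmtAsm.{u}) : Arch.StmtKernel.{u} :=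
  stmtKernel h1 (K303.stmtCons (stmtESide_of h2) h3)

end Groth.Agent.ResProp.EF.K980
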