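import Groth.Agent.ResProp.EF.K62.Cons
import Groth.Agent.ResProp.EF.K90.StmtGen

/-!
# `Arch.StmtKernel` (helper980)

The producer `K90.stmtProd : K980.StmtProd` and the consumer `K62.stmtCons : K980.StmtCons` give `Arch.StmtKernel`.
-/

set_option autoImplicit false
set_option linter.dupNamespace false

namespace Groth.Agent.ResProp.EF.K980

universe u

/-- **kernel data exist** (G3 + G4 + G5) -/
theorem stmtKernelProved : Arch.StmtKernel.{u} := stmtKernel K90.stmtProd.{u} K62.stmtCons.{u}

end Groth.Agent.ResProp.EF.K980
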