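import Groth.Agent.ResProp.EF.K980.Comap

/-!
# Replacing the algebra `D` of a package by an isomorphic one (helper980)
-/

set_option autoImplicit false

universe u

open CategoryTheory Opposite

noncomputable section

namespace Groth.Agent.ResProp.EF.K980

variable {R : Type u} [CommRing R]

/-- replace `D` by `D'` -/
def OpCpx.congrD (X : OpCpx.{u} R) {D' : Type u} [CommRing D'] [Algebra R D'] (i : X.D ≃ₐ[R] D') : OpCpx.{u} R where
  D := D'
  Q := X.Q
  π := i.toAlgHom.comp X.π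
  π_surj := i.surjective.comp X.π_surj
  finQ := X.finQ
  K := X.K
  finK := X.finK
  e := X.e
  k := X.k
  d := X.d
  pr := X.pr
  pr_idem := X.pr_idem
  pr_orth := X.pr_orth
  pr_sum := X.pr_sum
  d_pr := X.d_pr
  d_pr_zero := X.d_pr_zero
  d_d := X.d_d
  F := X.F
  F_zero := X.F_zero
  F_succ := X.F_succ
  F_last := X.F_last
  F_d := X.F_d
  F_pr := X.F_pr
  F_ker n q hq := X.F_ker n q (i.map_eq_zero_iff.mp hq)
  DD := X.DD
  DD_succ := X.DD_succ
  DD_last := X.DD_last
  DD_mul := X.DD_mul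
  DD_F := X.DD_F
  DD_d := X.DD_d
  DD_pr := X.DD_pr
  DD_Q := X.DD_Q
  DD_ker j q hq := X.DD_ker j q (i.map_eq_zero_iff.mp hq)
  DD_gen := X.DD_gen
  emb_inj := X.emb_inj

theorem OpCpx.congrD_πx (X : OpCpx.{u} R) {D' : Type u} [CommRing D'] [Algebra R D'] (i : X.D ≃ₐ[R] D')
    {R' : Type u} [CommRing R'] (x : R →+* R') (q : BC x X.Q) :
    (X.congrD i).πx x q = BC.map x i.toLinearMap (X.πx x q) :=
  (BC.map_map i.toLinearMap X.π.toLinearMap q).symm

theorem bcMap_injective {D D' : Type u} [CommRing D] [Algebra R D] [CommRing D'] [Algebra R D'] (i : D ≃ₐ[R] D')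
    {R' : Type u} [CommRing R'] (x : R →+* R') {a b : BC x D}
    (h : BC.map x i.toLinearMap a = BC.map x i.toLinearMap b) : a = b :=
  (BC.congr (x := x) i.toLinearEquiv).injective h

/-- replace `D` by `D'` in an algebra package -/
def AlgPkg.congrD {P : PGpd.{u} R} (X : AlgPkg P) {D' : Type u} [CommRing D'] [Algebra R D'] (i : X.D ≃ₐ[R] D') :
    AlgPkg P where
  toOpCpx := X.toOpCpx.congrD i
  eta := X.eta.congr i
  L a := X.L a
  L_ne a := X.L_ne a
  L_one := X.L_one
  L_comp := X.L_comp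
  L_inv := X.L_inv
  L_pull := X.L_pull
  L_d := X.L_d
  L_pr := X.L_pr
  L_F := X.L_F
  L_conj := X.L_conj
  L_semF {R' _ x y} a hx hy ψ hψ n q q' h v hv := by
    refine X.L_semF a hx hy ψ hψ n q q' ?_ v hv
    refine bcMap_injective i y ?_
    have h1 : (X.toOpCpx.congrD i).πx y q' = BC.map y i.toLinearMap (X.toOpCpx.πx y q') := X.toOpCpx.congrD_πx i y q'
    have h2 : (X.eta.congr i).act a ((X.toOpCpx.congrD i).πx x q) =
        BC.map y i.toLinearMap (X.eta.act a (X.toOpCpx.πx x q)) := by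
      rw [X.toOpCpx.congrD_πx i x q]
      show BC.map y i.toLinearMap (X.eta.act a (BC.map x i.symm.toLinearMap
        (BC.map x i.toLinearMap (X.toOpCpx.πx x q)))) = _
      rw [BC.map_map]
      have : i.symm.toLinearMap ∘ₗ i.toLinearMap = (LinearMap.id : X.D →ₗ[R] X.D) := by
        ext d
        exact i.symm_apply_apply d
      rw [this, BC.map_id]
      rfl
    rw [← h1, ← h2]
    exact h
  L_semD {R' _ x y} a hx hy ψ hψ j hj q q' h T hT := by
    refine X.L_semD a hx hy ψ hψ j hj q q' ?_ T hT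
    refine bcMap_injective i y ?_
    have h1 : (X.toOpCpx.congrD i).πx y q' = BC.map y i.toLinearMap (X.toOpCpx.πx y q') := X.toOpCpx.congrD_πx i y q'
    have h2 : (X.eta.congr i).act a ((X.toOpCpx.congrD i).πx x q) =
        BC.map y i.toLinearMap (X.eta.act a (X.toOpCpx.πx x q)) := by
      rw [X.toOpCpx.congrD_πx i x q]
      show BC.map y i.toLinearMap (X.eta.act a (BC.map x i.symm.toLinearMap
        (BC.map x i.toLinearMap (X.toOpCpx.πx x q)))) = _
      rw [BC.map_map]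
      have : i.symm.toLinearMap ∘ₗ i.toLinearMap = (LinearMap.id : X.D →ₗ[R] X.D) := by
        ext d
        exact i.symm_apply_apply d
      rw [this, BC.map_id]
      rfl
    rw [← h1, ← h2]
    exact h

/-- transport of `Amp` -/
def OpCpx.Amp.congrD {X : OpCpx.{u} R} (h : X.Amp) {D' : Type u} [CommRing D'] [Algebra R D'] (i : X.D ≃ₐ[R] D') :
    (X.congrD i).Amp where
  aug := i.toLinearMap ∘ₗ h.aug
  aug_surj := i.surjective.comp h.aug_surj
  aug_d v := (congrArg i (h.aug_d v)).trans (map_zero i)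
  aug_pr v := congrArg i (h.aug_pr v)
  tor := h.tor

open EF56 K741.RP K784.BC K784.PM Grp Arch

variable {k : Type u} [CommRing k] {A : NFᵒᵖ ⥤ CommRingCat.{u}} [GRF k A] {x : PrimeSpectrum (A.obj (op ⟨0⟩))}
  {c : CoverDatum k A x}

/-- the same output with `X.D = D⟨0⟩` on the nose, `iD = refl` -/
def ALGOut.norm (o : ALGOut c) : ALGOut c where
  P := o.P
  lev := o.lev
  X := o.X.congrD o.iD
  iD := AlgEquiv.refl
  eta_match := by
    intro B _ _ _ n i j h d
    have := o.eta_match B n i j h d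
    rw [← this]
    congr 1
    show BC.map _ (AlgEquiv.refl : c.Y.D.obj (op ⟨0⟩) ≃ₐ[A.obj (op ⟨0⟩)] _).toLinearMap
      (BC.map _ o.iD.toLinearMap (o.X.eta.act _ (BC.map _ o.iD.symm.toLinearMap
        (BC.map _ (AlgEquiv.refl : c.Y.D.obj (op ⟨0⟩) ≃ₐ[A.obj (op ⟨0⟩)] _).symm.toLinearMap (bc _ d))))) = _
    rw [BC.map_bc]
    have : ∀ (z : BC (xp k A B n j) (c.Y.D.obj (op ⟨0⟩))),
        BC.map _ (AlgEquiv.refl : c.Y.D.obj (op ⟨0⟩) ≃ₐ[A.obj (op ⟨0⟩)] _).toLinearMap z = z := by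
      intro z
      exact LinearMap.congr_fun (BC.map_id (x := xp k A B n j) (M := c.Y.D.obj (op ⟨0⟩))) z
    rw [this]
    rfl
  amp := o.amp.congrD o.iD

@[simp] theorem ALGOut.norm_iD (o : ALGOut c) : o.norm.iD = AlgEquiv.refl := rfl

theorem ALGOut.norm_eta (o : ALGOut c) (B : Type u) [CommRing B] [Algebra k B] [Module.Flat k B] (n : ℕ)
    (i j : Fin (n + 1)) (h : (K208.pts c.H).pt B) (d : c.Y.D.obj (op ⟨0⟩)) :
    vtxD c B n j (o.norm.X.eta.act (o.norm.lev.ar B n i j h) (bc _ d)) = hAct c B n h.ofConv (rg c.Y.D (pt ⟨n⟩ i) d) :=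
  o.eta_match B n i j h d

end Groth.Agent.ResProp.EF.K980
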